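import Cfsg.Agent.Lib.Small.SpClassCount.Forms
import Cfsg.Agent.Lib.Small.JordanType

/-!
# Classes of elements of order `p` in the symplectic group in odd characteristic
-/

set_option autoImplicit false
set_option linter.unusedSectionVars false

namespace Cfsg.Agent.Small.SpClassCount

open Matrix
open scoped _root_.Classical

universe u

variable {F : Type u} [Field F] [Fintype F] {m : ℕ}

local notation "ι" => (Fin m ⊕ Fin m)

section Rel

variable {t : ℕ} (d : Fin t → ℕ)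

local notation "I" => ((k : Fin t) × Fin (d k))

/-- `g` is similar to the Jordan matrix of type `d`, the standard form corresponding to `W` -/
def Rel (W : Matrix I I F) (g : Matrix ι ι F) : Prop :=
  ∃ (P : Matrix I ι F) (Q : Matrix ι I F), P * Q = 1 ∧ Q * P = 1 ∧
    Pᵀ * W * P = Matrix.J (Fin m) F ∧ P * g = Cfsg.jordanTypeMatrix d F * P

theorem exists_rel (h2 : (2 : F) ≠ 0) (hsum : ∑ k, d k = 2 * m) {W : Matrix I I F} (hW : IsForm d W) :
    ∃ g : ↥(Matrix.symplecticGroup (Fin m) F), Rel d W g.1 := by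
  have e : I ≃ ι := Fintype.equivOfCardEq (by
    simp only [Fintype.card_sigma, Fintype.card_sum, Fintype.card_fin, hsum]; omega)
  obtain ⟨P', hP'⟩ := SymplecticSemisimple.exists_congr (W.submatrix e.symm e.symm) (Matrix.J (Fin m) F)
    (alt_of_skew h2 (by rw [Matrix.transpose_submatrix, hW.skew]; rfl))
    (by rw [Matrix.det_submatrix_equiv_self]; exact (Matrix.isUnit_iff_isUnit_det _).1 hW.unit)
    (alt_of_skew h2 (Matrix.J_transpose _ _)) (Matrix.isUnit_det_J _ _)
  have hP'u : IsUnit P'.det := by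
    have h := Matrix.isUnit_det_J (Fin m) F
    rw [← hP', Matrix.det_mul] at h
    exact (IsUnit.mul_iff.1 h).2
  set P : Matrix I ι F := P'.submatrix e id with hP
  set Q : Matrix ι I F := (P'⁻¹).submatrix id e with hQ
  have hPQ : P * Q = 1 := by
    rw [hP, hQ, ← Matrix.submatrix_mul _ _ e id e Function.bijective_id,
      Matrix.mul_nonsing_inv _ hP'u, Matrix.submatrix_one_equiv]
  have hQP : Q * P = 1 := by
    rw [hP, hQ, Matrix.submatrix_mul_equiv, Matrix.nonsing_inv_mul _ hP'u, Matrix.submatrix_id_id]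
  have hPW : Pᵀ * W * P = Matrix.J (Fin m) F := by
    have hWe : W = (W.submatrix e.symm e.symm).submatrix e e := by
      simp [Matrix.submatrix_submatrix]
    rw [hP, Matrix.transpose_submatrix, hWe, Matrix.submatrix_mul_equiv, Matrix.submatrix_mul_equiv,
      hP', Matrix.submatrix_id_id]
  have hQJ : Qᵀ * Matrix.J (Fin m) F * Q = W := by
    calc Qᵀ * Matrix.J (Fin m) F * Q = (P * Q)ᵀ * W * (P * Q) := by
          rw [← hPW]; simp only [Matrix.transpose_mul, Matrix.mul_assoc]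
      _ = W := by rw [hPQ, Matrix.transpose_one, one_mul, mul_one]
  refine ⟨⟨Q * Cfsg.jordanTypeMatrix d F * P, ?_⟩, P, Q, hPQ, hQP, hPW, ?_⟩
  · rw [SymplecticGroup.mem_iff']
    calc (Q * Cfsg.jordanTypeMatrix d F * P)ᵀ * Matrix.J (Fin m) F * (Q * Cfsg.jordanTypeMatrix d F * P)
        = Pᵀ * ((Cfsg.jordanTypeMatrix d F)ᵀ * (Qᵀ * Matrix.J (Fin m) F * Q) * Cfsg.jordanTypeMatrix d F) * P := by
          simp only [Matrix.transpose_mul, Matrix.mul_assoc]
      _ = _ := by rw [hQJ, hW.inv, hPW]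
  · show P * (Q * Cfsg.jordanTypeMatrix d F * P) = _
    rw [← Matrix.mul_assoc, ← Matrix.mul_assoc, hPQ, Matrix.one_mul]

theorem comm_iff {y : Matrix I I F} :
    Comm d y ↔ y * Cfsg.jordanTypeMatrix d F = Cfsg.jordanTypeMatrix d F * y := by
  rw [Comm, JordanCent.jordan_eq, mul_add, add_mul, mul_one, one_mul, add_right_inj]

theorem isConj_of_congr {V W : Matrix I I F} {g g' : ↥(Matrix.symplecticGroup (Fin m) F)}
    (hg : Rel d V g.1) (hg' : Rel d W g'.1) {y : Matrix I I F} (hy : Comm d y)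
    (hyW : yᵀ * V * y = W) : IsConj g' g := by
  obtain ⟨P, Q, hPQ, hQP, hPW, hPg⟩ := hg
  obtain ⟨P', Q', hPQ', hQP', hPW', hPg'⟩ := hg'
  rw [comm_iff] at hy
  set P'' := y * P' with hP''
  have h1 : P''ᵀ * V * P'' = Matrix.J (Fin m) F := by
    rw [← hPW', ← hyW, hP'']; simp only [Matrix.transpose_mul, Matrix.mul_assoc]
  have hQJ : Qᵀ * Matrix.J (Fin m) F * Q = V := by
    calc Qᵀ * Matrix.J (Fin m) F * Q = (P * Q)ᵀ * V * (P * Q) := by
          rw [← hPW]; simp only [Matrix.transpose_mul, Matrix.mul_assoc]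
      _ = V := by rw [hPQ, Matrix.transpose_one, one_mul, mul_one]
  have hh : Q * P'' ∈ Matrix.symplecticGroup (Fin m) F := by
    rw [SymplecticGroup.mem_iff']
    calc (Q * P'')ᵀ * Matrix.J (Fin m) F * (Q * P'') = P''ᵀ * (Qᵀ * Matrix.J (Fin m) F * Q) * P'' := by
          simp only [Matrix.transpose_mul, Matrix.mul_assoc]
      _ = _ := by rw [hQJ, h1]
  have hQJd : Q * Cfsg.jordanTypeMatrix d F = g.1 * Q := by
    calc Q * Cfsg.jordanTypeMatrix d F = Q * (Cfsg.jordanTypeMatrix d F * P) * Q := by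
          simp only [Matrix.mul_assoc, hPQ, Matrix.mul_one]
      _ = Q * P * g.1 * Q := by rw [← hPg]; simp only [Matrix.mul_assoc]
      _ = g.1 * Q := by rw [hQP, Matrix.one_mul]
  refine isConj_iff.2 ⟨⟨_, hh⟩, mul_inv_eq_iff_eq_mul.2 (Subtype.ext ?_)⟩
  show Q * P'' * g'.1 = g.1 * (Q * P'')
  rw [← Matrix.mul_assoc g.1, ← hQJd, hP'']
  calc Q * (y * P') * g'.1 = Q * y * (P' * g'.1) := by simp only [Matrix.mul_assoc]
    _ = Q * (y * Cfsg.jordanTypeMatrix d F) * P' := by rw [hPg']; simp only [Matrix.mul_assoc]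
    _ = Q * Cfsg.jordanTypeMatrix d F * (y * P') := by rw [hy]; simp only [Matrix.mul_assoc]

theorem congr_of_isConj {V W : Matrix I I F} {g g' : ↥(Matrix.symplecticGroup (Fin m) F)}
    (hg : Rel d V g.1) (hg' : Rel d W g'.1) (hc : IsConj g' g) :
    ∃ y : Matrix I I F, IsUnit y.det ∧ Comm d y ∧ yᵀ * V * y = W := by
  obtain ⟨P, Q, hPQ, hQP, hPW, hPg⟩ := hg
  obtain ⟨P', Q', hPQ', hQP', hPW', hPg'⟩ := hg'
  obtain ⟨h, hh⟩ := isConj_iff.1 hc
  have hhg : h.1 * g'.1 = g.1 * h.1 := congrArg Subtype.val (mul_inv_eq_iff_eq_mul.1 hh)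
  have hhs := SymplecticGroup.mem_iff'.1 h.2
  set y := P * h.1 * Q' with hy
  have hQ'J : Q'ᵀ * Matrix.J (Fin m) F * Q' = W := by
    calc Q'ᵀ * Matrix.J (Fin m) F * Q' = (P' * Q')ᵀ * W * (P' * Q') := by
          rw [← hPW']; simp only [Matrix.transpose_mul, Matrix.mul_assoc]
      _ = W := by rw [hPQ', Matrix.transpose_one, one_mul, mul_one]
  refine ⟨y, ?_, ?_, ?_⟩
  · refine IsUnit.of_mul_eq_one (b := (P' * (h⁻¹).1 * Q).det) ?_
    have h1 : h.1 * (h⁻¹).1 = 1 := congrArg Subtype.val (mul_inv_cancel h)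
    rw [← Matrix.det_mul, hy, show P * h.1 * Q' * (P' * (h⁻¹).1 * Q) = P * (h.1 * (Q' * P') * (h⁻¹).1) * Q by
      simp only [Matrix.mul_assoc], hQP', Matrix.mul_one, h1, Matrix.mul_one, hPQ, Matrix.det_one]
  · rw [comm_iff]
    calc y * Cfsg.jordanTypeMatrix d F = P * h.1 * Q' * (Cfsg.jordanTypeMatrix d F * P') * Q' := by
          rw [hy]; simp only [Matrix.mul_assoc, hPQ', Matrix.mul_one]
      _ = P * h.1 * (Q' * P') * g'.1 * Q' := by rw [← hPg']; simp only [Matrix.mul_assoc]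
      _ = P * (h.1 * g'.1) * Q' := by rw [hQP', Matrix.mul_one]; simp only [Matrix.mul_assoc]
      _ = P * g.1 * h.1 * Q' := by rw [hhg]; simp only [Matrix.mul_assoc]
      _ = _ := by rw [hPg, hy]; simp only [Matrix.mul_assoc]
  · calc yᵀ * V * y = Q'ᵀ * (h.1ᵀ * (Pᵀ * V * P) * h.1) * Q' := by
          rw [hy]; simp only [Matrix.transpose_mul, Matrix.mul_assoc]
      _ = W := by rw [hPW, hhs, hQ'J]

theorem exists_form_of_sim {g : ↥(Matrix.symplecticGroup (Fin m) F)} {P : Matrix I ι F}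
    {Q : Matrix ι I F} (hPQ : P * Q = 1) (hQP : Q * P = 1)
    (hPg : P * g.1 = Cfsg.jordanTypeMatrix d F * P) :
    ∃ W : Matrix I I F, IsForm d W ∧ Rel d W g.1 := by
  have hgs := SymplecticGroup.mem_iff'.1 g.2
  have hQJd : Q * Cfsg.jordanTypeMatrix d F = g.1 * Q := by
    calc Q * Cfsg.jordanTypeMatrix d F = Q * (Cfsg.jordanTypeMatrix d F * P) * Q := by
          simp only [Matrix.mul_assoc, hPQ, Matrix.mul_one]
      _ = Q * P * g.1 * Q := by rw [← hPg]; simp only [Matrix.mul_assoc]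
      _ = g.1 * Q := by rw [hQP, Matrix.one_mul]
  refine ⟨Qᵀ * Matrix.J (Fin m) F * Q, ⟨?_, ?_, ?_⟩, P, Q, hPQ, hQP, ?_, hPg⟩
  · refine IsUnit.of_mul_eq_one (b := P * (-Matrix.J (Fin m) F) * Pᵀ) ?_
    rw [show Qᵀ * Matrix.J (Fin m) F * Q * (P * -Matrix.J (Fin m) F * Pᵀ) =
      Qᵀ * (Matrix.J (Fin m) F * (Q * P) * -Matrix.J (Fin m) F) * Pᵀ by simp only [Matrix.mul_assoc],
      hQP, Matrix.mul_one, Matrix.mul_neg, Matrix.J_squared, neg_neg, Matrix.mul_one,
      ← Matrix.transpose_mul, hPQ, Matrix.transpose_one]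
  · rw [Matrix.transpose_mul, Matrix.transpose_mul, Matrix.transpose_transpose, Matrix.J_transpose,
      Matrix.neg_mul, Matrix.mul_neg, Matrix.mul_assoc]
  · show (Cfsg.jordanTypeMatrix d F)ᵀ * _ * _ = _
    calc (Cfsg.jordanTypeMatrix d F)ᵀ * (Qᵀ * Matrix.J (Fin m) F * Q) * Cfsg.jordanTypeMatrix d F
        = (Q * Cfsg.jordanTypeMatrix d F)ᵀ * Matrix.J (Fin m) F * (Q * Cfsg.jordanTypeMatrix d F) := by
          simp only [Matrix.transpose_mul, Matrix.mul_assoc]
      _ = Qᵀ * (g.1ᵀ * Matrix.J (Fin m) F * g.1) * Q := by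
          rw [hQJd]; simp only [Matrix.transpose_mul, Matrix.mul_assoc]
      _ = _ := by rw [hgs]
  · calc Pᵀ * (Qᵀ * Matrix.J (Fin m) F * Q) * P = (Q * P)ᵀ * Matrix.J (Fin m) F * (Q * P) := by
          simp only [Matrix.transpose_mul, Matrix.mul_assoc]
      _ = _ := by rw [hQP, Matrix.transpose_one, one_mul, mul_one]

/-- a similarity to the Jordan matrix gives the type -/
theorem hasType_of_sim {n : ℕ} {μ : Nat.Partition n} (hμ : JordanType.parts d = μ.parts)
    (G : GL (Fin n) F) (P : Matrix I (Fin n) F) (Q : Matrix (Fin n) I F) (hPQ : P * Q = 1)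
    (hQP : Q * P = 1) (hPG : P * G.1 = Cfsg.jordanTypeMatrix d F * P) :
    JordanType.HasType G μ := by
  let E : (I → F) ≃ₗ[F] (Fin n → F) :=
    { toLinearMap := Q.mulVecLin
      invFun := fun v => P *ᵥ v
      left_inv := fun v => by
        show P *ᵥ (Q *ᵥ v) = v
        rw [Matrix.mulVec_mulVec, hPQ, Matrix.one_mulVec]
      right_inv := fun v => by
        show Q *ᵥ (P *ᵥ v) = v
        rw [Matrix.mulVec_mulVec, hQP, Matrix.one_mulVec] }
  let b : Module.Basis I F (Fin n → F) := (Pi.basisFun F I).map E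
  refine ⟨t, d, b, fun x => ?_, hμ⟩
  have hb : ∀ y, b y = Q *ᵥ Pi.single y 1 := fun y => by
    show E (Pi.basisFun F I y) = _
    rw [Pi.basisFun_apply]; rfl
  have hGQ : G.1 * Q = Q * Cfsg.jordanTypeMatrix d F := by
    calc G.1 * Q = Q * P * G.1 * Q := by rw [hQP, Matrix.one_mul]
      _ = Q * (Cfsg.jordanTypeMatrix d F * P) * Q := by rw [← hPG]; simp only [Matrix.mul_assoc]
      _ = _ := by simp only [Matrix.mul_assoc, hPQ, Matrix.mul_one]
  have h1 : JordanType.nil G (b x) = Q *ᵥ (JordanCent.nilM F d *ᵥ Pi.single x 1) := by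
    show G.1 *ᵥ (b x) - b x = _
    rw [hb, Matrix.mulVec_mulVec, hGQ, JordanCent.jordan_eq, Matrix.mul_add, Matrix.mul_one,
      Matrix.add_mulVec, add_sub_cancel_left, ← Matrix.mulVec_mulVec]
  rw [h1]
  split_ifs with h
  · rw [hb]
    congr 1
    rw [Matrix.mulVec_single_one]
    funext ⟨k, a⟩
    obtain ⟨l, c⟩ := x
    simp only [Matrix.col_apply, JordanCent.nilM, Pi.single_apply]
    refine if_congr ?_ rfl rfl
    constructor
    · rintro ⟨h1, h2⟩
      exact SpJordan.sig_ext d h1 h2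
    · intro e
      exact ⟨congrArg Sigma.fst e, congrArg (fun y : I => y.2.val) e⟩
  · rw [show JordanCent.nilM F d *ᵥ Pi.single x 1 = 0 from ?_, Matrix.mulVec_zero]
    rw [Matrix.mulVec_single_one]
    funext ⟨k, a⟩
    obtain ⟨l, c⟩ := x
    simp only [Matrix.col_apply, JordanCent.nilM, Pi.zero_apply]
    rw [if_neg]
    rintro ⟨h1, h2⟩
    subst h1
    exact h (by simpa [h2] using a.isLt)

theorem even_of_form (hd : ∀ k, 1 ≤ d k) (h2 : (2 : F) ≠ 0) {W : Matrix I I F} (hW : IsForm d W)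
    {j : ℕ} (hj : Odd j) : Even (Finset.univ.filter (fun k : Fin t => d k = j)).card := by
  by_contra hne
  rw [Nat.not_even_iff_odd] at hne
  have hu := isUnit_btop d hd hW.inv ((Matrix.isUnit_iff_isUnit_det _).1 hW.unit) (i := j) hj.pos
  have ht := congrArg Matrix.det (btop_transpose d hW.inv hW.skew (i := j) hj.pos)
  rw [Matrix.det_transpose, hj.neg_one_pow, Matrix.det_smul, Fintype.card_subtype, hne.neg_one_pow] at ht
  exact hu.ne_zero ((mul_eq_zero.1 (show (2 : F) * (btop d W j).det = 0 by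
    linear_combination ht)).resolve_left h2)

end Rel

/-- a list of the parts -/
noncomputable def dd {n : ℕ} (μ : Nat.Partition n) : Fin μ.parts.toList.length → ℕ :=
  fun i => μ.parts.toList.get i

theorem dd_map {n : ℕ} (μ : Nat.Partition n) : (Finset.univ.val.map (dd μ)) = μ.parts := by
  unfold dd
  rw [Fin.univ_val_map, List.ofFn_get, Multiset.coe_toList]

theorem dd_pos {n : ℕ} (μ : Nat.Partition n) (k) : 1 ≤ dd μ k := by
  have h : dd μ k ∈ μ.parts := by
    rw [← dd_map μ]; exact Multiset.mem_map_of_mem _ (Finset.mem_univ k)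
  exact μ.parts_pos h

theorem dd_parts {n : ℕ} (μ : Nat.Partition n) : JordanType.parts (dd μ) = μ.parts := by
  rw [JordanType.parts, dd_map]
  exact Multiset.filter_eq_self.mpr fun a ha => (μ.parts_pos ha).ne'

theorem dd_sum {n : ℕ} (μ : Nat.Partition n) : ∑ k, dd μ k = n := by
  rw [← JordanType.sum_parts, dd_parts, μ.parts_sum]

theorem dd_exists {n : ℕ} (μ : Nat.Partition n) (j : ℕ) : (∃ k, dd μ k = j) ↔ j ∈ μ.parts := by
  constructor
  · rintro ⟨k, rfl⟩
    rw [← dd_map μ]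
    exact Multiset.mem_map_of_mem _ (Finset.mem_univ k)
  · intro h
    rw [← dd_map μ, Multiset.mem_map] at h
    obtain ⟨k, -, hk⟩ := h
    exact ⟨k, hk⟩

theorem dd_card {n : ℕ} (μ : Nat.Partition n) (j : ℕ) :
    (Finset.univ.filter (fun k => dd μ k = j)).card = μ.parts.count j := by
  conv_rhs => rw [← dd_map μ]
  rw [Multiset.count_map, Finset.card_def, Finset.filter_val]
  congr 1
  exact Multiset.filter_congr fun x _ => eq_comm

/-- the class count -/
theorem card_order_p {p : ℕ} [Fact p.Prime] [CharP F p] (hp : p ≠ 2) (m : ℕ) :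
    Nat.card {C : ConjClasses ↥(Matrix.symplecticGroup (Fin m) F) //
      ∃ g : Matrix.symplecticGroup (Fin m) F, ConjClasses.mk g = C ∧ orderOf g = p} =
    (∑ μ ∈ Finset.univ.filter (fun μ : Nat.Partition (2 * m) =>
        (∀ a ∈ μ.parts, a ≤ p) ∧ ∀ j : ℕ, Odd j → Even (μ.parts.count j)),
      2 ^ ((μ.parts.toFinset.filter (fun j : ℕ => Even j)).card)) - 1 := by
  have hpp := (Fact.out : p.Prime)
  have hchar : ringChar F ≠ 2 := by rw [ringChar.eq F p]; exact hp
  have h2 : (2 : F) ≠ 0 := Ring.two_ne_zero hchar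
  obtain ⟨c, hc⟩ := FiniteField.exists_nonsquare hchar
  have hc0 : c ≠ 0 := fun h => hc (h ▸ IsSquare.zero)
  let e0 : Fin m ⊕ Fin m ≃ Fin (2 * m) := finSumFinEquiv.trans (finCongr (by omega))
  let toGL : ↥(Matrix.symplecticGroup (Fin m) F) →* GL (Fin (2 * m)) F :=
    ((Units.map (Matrix.reindexAlgEquiv F F e0).toMonoidHom)).comp
      (Matrix.symplecticGroup (Fin m) F).subtype.toHomUnits
  have hGL : ∀ g, (toGL g).1 = g.1.submatrix e0.symm e0.symm := fun g => rfl
  have hGLinj : Function.Injective toGL := by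
    intro g h e
    refine Subtype.ext ?_
    have := congrArg (fun x : GL (Fin (2 * m)) F => x.1.submatrix e0 e0) e
    simpa [hGL, Matrix.submatrix_submatrix] using this
  have hpow : ∀ {μ : Nat.Partition (2 * m)} {g : GL (Fin (2 * m)) F}, JordanType.HasType g μ →
      (g ^ p = 1 ↔ ∀ a ∈ μ.parts, a ≤ p) := by
    rintro μ g ⟨t, k, b, hb, hk⟩
    have h := JordanType.toLin_pow_eq_one_iff (p := p) g 1
    rw [pow_one] at h
    rw [h, hb.pow_eq_zero_iff, ← hk, JordanType.forall_parts]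
  -- types of related elements
  have hrelType : ∀ (μ : Nat.Partition (2 * m)) W (g : ↥(Matrix.symplecticGroup (Fin m) F)),
      Rel (dd μ) W g.1 → JordanType.HasType (toGL g) μ := by
    rintro μ W g ⟨P, Q, hPQ, hQP, -, hPg⟩
    refine hasType_of_sim (dd μ) (dd_parts μ) (toGL g) (P.submatrix id e0.symm) (Q.submatrix e0.symm id)
      ?_ ?_ ?_
    · rw [Matrix.submatrix_mul_equiv, hPQ, Matrix.submatrix_id_id]
    · rw [← Matrix.submatrix_mul _ _ e0.symm id e0.symm Function.bijective_id, hQP,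
        Matrix.submatrix_one_equiv]
    · rw [hGL, Matrix.submatrix_mul_equiv, hPg]
      conv_rhs => rw [← Matrix.submatrix_id_id (Cfsg.jordanTypeMatrix (dd μ) F)]
      rw [← Matrix.submatrix_mul _ _ id id e0.symm Function.bijective_id]
  -- every element of order dividing `p` is related to some form
  have hcover : ∀ g : ↥(Matrix.symplecticGroup (Fin m) F), g ^ p = 1 →
      ∃ μ : Nat.Partition (2 * m), ((∀ a ∈ μ.parts, a ≤ p) ∧ ∀ j : ℕ, Odd j → Even (μ.parts.count j)) ∧
        ∃ W, IsForm (dd μ) W ∧ Rel (dd μ) W g.1 := by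
    intro g hg
    have hgG : toGL g ^ p = 1 := by rw [← map_pow, hg, map_one]
    have hnil : IsNilpotent (JordanType.nil (toGL g)) :=
      ⟨p ^ 1, (JordanType.toLin_pow_eq_one_iff (p := p) _ 1).1 (by rw [pow_one]; exact hgG)⟩
    obtain ⟨μ, hμ⟩ := JordanType.exists_type _ hnil
    have e : ((k : Fin μ.parts.toList.length) × Fin (dd μ k)) ≃ Fin (2 * m) :=
      Fintype.equivOfCardEq (by simp only [Fintype.card_sigma, Fintype.card_fin, dd_sum])
    set N := JordanCent.nilM F (dd μ)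
    obtain ⟨G, hG⟩ : ∃ G : GL (Fin (2 * m)) F,
        G.1 = (Cfsg.jordanTypeMatrix (dd μ) F).submatrix e.symm e.symm := by
      have hN : IsNilpotent N := isNilpotent_of_topC_zero (dd μ) (dd_pos μ) rfl fun i => by
        ext k l
        show N _ _ = (0 : F)
        exact if_neg (by rintro ⟨-, h⟩; simp at h)
      have hu : IsUnit ((Cfsg.jordanTypeMatrix (dd μ) F).submatrix e.symm e.symm) := by
        rw [Matrix.isUnit_iff_isUnit_det, Matrix.det_submatrix_equiv_self, ← Matrix.isUnit_iff_isUnit_det,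
          JordanCent.jordan_eq]
        exact hN.isUnit_one_add
      obtain ⟨G, hG⟩ := hu
      exact ⟨G, hG⟩
    have hGt : JordanType.HasType G μ := by
      refine hasType_of_sim (dd μ) (dd_parts μ) G ((1 : Matrix _ _ F).submatrix id e.symm)
        ((1 : Matrix _ _ F).submatrix e.symm id) ?_ ?_ ?_
      · rw [Matrix.submatrix_mul_equiv, one_mul, Matrix.submatrix_id_id]
      · rw [← Matrix.submatrix_mul _ _ e.symm id e.symm Function.bijective_id, one_mul,
          Matrix.submatrix_one_equiv]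
      · rw [hG, Matrix.submatrix_mul_equiv, one_mul]
        conv_rhs => rw [← Matrix.submatrix_id_id (Cfsg.jordanTypeMatrix (dd μ) F)]
        rw [← Matrix.submatrix_mul _ _ id id e.symm Function.bijective_id, mul_one]
    obtain ⟨x, hx⟩ := isConj_iff.1 (JordanType.conj_of_type hμ hGt)
    have hx' : x.1 * (g.1.submatrix e0.symm e0.symm) =
        ((Cfsg.jordanTypeMatrix (dd μ) F).submatrix e.symm e.symm) * x.1 := by
      rw [← hG, ← hGL, ← Units.val_mul, ← Units.val_mul, mul_inv_eq_iff_eq_mul.1 hx]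
    obtain ⟨W, hW, hrel⟩ := exists_form_of_sim (dd μ) (g := g) (P := x.1.submatrix e e0)
      (Q := (x⁻¹).1.submatrix e0 e) (by
        rw [Matrix.submatrix_mul_equiv, ← Units.val_mul, mul_inv_cancel, Units.val_one,
          Matrix.submatrix_one_equiv])
      (by
        rw [Matrix.submatrix_mul_equiv, ← Units.val_mul, inv_mul_cancel, Units.val_one,
          Matrix.submatrix_one_equiv])
      (by
        have h1 : g.1 = (g.1.submatrix e0.symm e0.symm).submatrix e0 e0 := by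
          simp [Matrix.submatrix_submatrix]
        have h2 : Cfsg.jordanTypeMatrix (dd μ) F =
            ((Cfsg.jordanTypeMatrix (dd μ) F).submatrix e.symm e.symm).submatrix e e := by
          simp [Matrix.submatrix_submatrix]
        conv_lhs => rw [h1]
        conv_rhs => rw [h2]
        rw [Matrix.submatrix_mul_equiv, Matrix.submatrix_mul_equiv, hx'])
    exact ⟨μ, ⟨(hpow hμ).1 hgG, fun j hj => by
      rw [← dd_card]; exact even_of_form (dd μ) (dd_pos μ) h2 hW hj⟩, W, hW, hrel⟩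
  -- representatives
  let S := {μ : Nat.Partition (2 * m) // (∀ a ∈ μ.parts, a ≤ p) ∧ ∀ j : ℕ, Odd j → Even (μ.parts.count j)}
  let T := Σ μ : S, ({j // j ∈ (μ.1.parts.toFinset.filter (fun j : ℕ => Even j))} → Bool)
  let ε : T → ℕ → F := fun x i =>
    if h : i ∈ (x.1.1.parts.toFinset.filter (fun j : ℕ => Even j)) then
      (if x.2 ⟨i, h⟩ then c else 1) else 1
  have hrep : ∀ x : T, ∃ (W : _) (g : ↥(Matrix.symplecticGroup (Fin m) F)),
      IsForm (dd x.1.1) W ∧ Rel (dd x.1.1) W g.1 ∧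
        ∀ i, Even i → (∃ k, dd x.1.1 k = i) → (btop (dd x.1.1) W i).det = ε x i := by
    intro x
    obtain ⟨W, hW, hdet⟩ := exists_form_det (dd x.1.1) (dd_pos _) h2
      (fun j hj => by rw [dd_card]; exact x.1.2.2 j hj) (ε x) (fun i => by
        simp only [ε]; split_ifs <;> simp [hc0])
    obtain ⟨g, hg⟩ := exists_rel (dd x.1.1) h2 (dd_sum _) hW
    exact ⟨W, g, hW, hg, hdet⟩
  choose W g hW hg hdet using hrep
  have hgp : ∀ x, g x ^ p = 1 := by
    intro x
    apply hGLinj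
    rw [map_pow, map_one]
    exact (hpow (hrelType _ _ _ (hg x))).2 x.1.2.1
  let f : T → {C : ConjClasses ↥(Matrix.symplecticGroup (Fin m) F) //
      ∃ g, ConjClasses.mk g = C ∧ g ^ p = 1} :=
    fun x => ⟨ConjClasses.mk (g x), g x, rfl, hgp x⟩
  have hinj : Function.Injective f := by
    intro x x' hxx
    have hcj : IsConj (g x) (g x') := ConjClasses.mk_eq_mk_iff_isConj.1 (congrArg Subtype.val hxx)
    obtain ⟨μ, v⟩ := x
    obtain ⟨μ', v'⟩ := x'
    obtain rfl : μ = μ' := Subtype.ext (JordanType.type_unique (hrelType _ _ _ (hg ⟨μ, v⟩))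
      (hrelType _ _ _ (hg ⟨μ', v'⟩)) (toGL.map_isConj hcj))
    congr 1
    funext ⟨i, hi⟩
    have hi' := Finset.mem_filter.1 hi
    rw [Multiset.mem_toFinset] at hi'
    obtain ⟨y, hyu, hyc, hy⟩ := congr_of_isConj (dd μ.1) (hg ⟨μ, v'⟩) (hg ⟨μ, v⟩) hcj
    have hsq := (congr_iff (dd μ.1) (p := p) (dd_pos _) hp h2 (hW ⟨μ, v'⟩) (hW ⟨μ, v⟩)).1
      ⟨y, hyu, hyc, hy⟩ i (μ.1.parts_pos hi'.1) hi'.2
    rw [hdet ⟨μ, v'⟩ i hi'.2 ((dd_exists _ _).2 hi'.1), hdet ⟨μ, v⟩ i hi'.2 ((dd_exists _ _).2 hi'.1)] at hsq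
    simp only [ε, dif_pos hi] at hsq
    cases hv : v ⟨i, hi⟩ <;> cases hv' : v' ⟨i, hi⟩
    · rfl
    · simp [hv, hv'] at hsq; exact absurd hsq hc
    · simp [hv, hv'] at hsq; exact absurd hsq hc
    · rfl
  have hsurj : Function.Surjective f := by
    rintro ⟨_, g', rfl, hg'⟩
    obtain ⟨μ, hμ, V, hV, hrel⟩ := hcover g' hg'
    let v : {j // j ∈ (μ.parts.toFinset.filter (fun j : ℕ => Even j))} → Bool :=
      fun j => decide (¬ IsSquare (btop (dd μ) V j.1).det)
    refine ⟨⟨⟨μ, hμ⟩, v⟩, Subtype.ext (ConjClasses.mk_eq_mk_iff_isConj.2 ?_)⟩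
    have hsq : ∀ i, 1 ≤ i → Even i →
        IsSquare ((btop (dd μ) V i).det * (btop (dd μ) (W ⟨⟨μ, hμ⟩, v⟩) i).det) := by
      intro i hi he
      by_cases hmem : i ∈ μ.parts
      · rw [hdet ⟨⟨μ, hμ⟩, v⟩ i he ((dd_exists _ _).2 hmem)]
        have hi' : i ∈ (μ.parts.toFinset.filter (fun j : ℕ => Even j)) :=
          Finset.mem_filter.2 ⟨Multiset.mem_toFinset.2 hmem, he⟩
        simp only [ε, dif_pos hi', v]
        by_cases hs : IsSquare (btop (dd μ) V i).det
        · simp [hs]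
        · rw [if_pos (decide_eq_true hs)]
          have hu := (isUnit_btop (dd μ) (dd_pos μ) hV.inv
            ((Matrix.isUnit_iff_isUnit_det _).1 hV.unit) (i := i) hi).ne_zero
          rw [← quadraticChar_one_iff_isSquare (mul_ne_zero hu hc0), map_mul,
            quadraticChar_neg_one_iff_not_isSquare.2 hs, quadraticChar_neg_one_iff_not_isSquare.2 hc]
          norm_num
      · haveI : IsEmpty {k // dd μ k = i} := ⟨fun k => hmem ((dd_exists _ _).1 ⟨k.1, k.2⟩)⟩
        rw [Matrix.det_isEmpty, Matrix.det_isEmpty]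
        exact ⟨1, rfl⟩
    obtain ⟨y, -, hyc, hy⟩ := (congr_iff (dd μ) (p := p) (dd_pos μ) hp h2 hV (hW ⟨⟨μ, hμ⟩, v⟩)).2 hsq
    exact isConj_of_congr (dd μ) hrel (hg ⟨⟨μ, hμ⟩, v⟩) hyc hy
  have hcount := Nat.card_eq_of_bijective f ⟨hinj, hsurj⟩
  have hT : Nat.card T = ∑ μ ∈ Finset.univ.filter (fun μ : Nat.Partition (2 * m) =>
        (∀ a ∈ μ.parts, a ≤ p) ∧ ∀ j : ℕ, Odd j → Even (μ.parts.count j)),
      2 ^ ((μ.parts.toFinset.filter (fun j : ℕ => Even j)).card) := by
    rw [Nat.card_sigma, Finset.sum_subtype (p := fun μ : Nat.Partition (2 * m) =>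
        (∀ a ∈ μ.parts, a ≤ p) ∧ ∀ j : ℕ, Odd j → Even (μ.parts.count j)) (Finset.univ.filter _)
      (fun x => by simp) (fun μ : Nat.Partition (2 * m) =>
        2 ^ ((μ.parts.toFinset.filter (fun j : ℕ => Even j)).card))]
    refine Finset.sum_congr rfl fun μ _ => ?_
    rw [Nat.card_fun, Nat.card_eq_fintype_card, Nat.card_eq_fintype_card, Fintype.card_bool,
      Fintype.card_coe]
  rw [← hT, hcount]
  haveI : Finite ↥(Matrix.symplecticGroup (Fin m) F) := inferInstance
  have hset : ∀ P : ConjClasses ↥(Matrix.symplecticGroup (Fin m) F) → Prop,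
      Nat.card {C // P C} = Set.ncard {C | P C} := fun P => Nat.card_coe_set_eq {C | P C}
  rw [hset, hset]
  rw [← Set.ncard_diff_singleton_of_mem (s := {C | ∃ g, ConjClasses.mk g = C ∧ g ^ p = 1})
    (a := ConjClasses.mk (1 : ↥(Matrix.symplecticGroup (Fin m) F))) ⟨1, rfl, one_pow _⟩]
  congr 1
  ext C
  constructor
  · rintro ⟨g, rfl, hg⟩
    refine ⟨⟨g, rfl, hg ▸ pow_orderOf_eq_one g⟩, fun h => ?_⟩
    rw [Set.mem_singleton_iff, ConjClasses.mk_eq_mk_iff_isConj, isConj_one_left] at h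
    rw [h, orderOf_one] at hg
    exact hpp.one_lt.ne hg
  · rintro ⟨⟨g, rfl, hg⟩, hne⟩
    exact ⟨g, rfl, orderOf_eq_prime hg fun h => hne (by rw [h]; rfl)⟩

end Cfsg.Agent.Small.SpClassCount
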