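import Cfsg.Agent.Lib.Small.SpClassCount.Top
import Cfsg.Agent.Lib.Small.Gram.Standard
import Cfsg.Agent.Lib.Small.SymplecticSemisimple
import Cfsg.Agent.Lib.Small.QuadDisc

/-!
# Invariant alternating forms of a Jordan matrix up to congruence

They are classified by the square classes of the determinants of the top forms on blocks of
even size, and all values occur.
-/

set_option autoImplicit false
set_option linter.unusedSectionVars false

namespace Cfsg.Agent.Small.SpClassCount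

open Matrix
open scoped _root_.Classical

universe u

variable {F : Type u} [Field F] [Fintype F]

/-- symmetric invertible matrices with the same square class of determinant are congruent -/
theorem sym_congr (h2 : (2 : F) ≠ 0) {ι : Type} [Fintype ι] [DecidableEq ι] {A B : Matrix ι ι F}
    (hA : Aᵀ = A) (hB : Bᵀ = B) (hAu : IsUnit A.det) (hBu : IsUnit B.det)
    (hsq : IsSquare (A.det * B.det)) : ∃ P : Matrix ι ι F, Pᵀ * A * P = B := by
  suffices h : ∀ (n : ℕ) (A B : Matrix (Fin n) (Fin n) F), Aᵀ = A → Bᵀ = B → IsUnit A.det →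
      IsUnit B.det → IsSquare (A.det * B.det) → ∃ P, Pᵀ * A * P = B by
    let e := Fintype.equivFin ι
    obtain ⟨P, hP⟩ := h _ (A.submatrix e.symm e.symm) (B.submatrix e.symm e.symm)
      (by rw [Matrix.transpose_submatrix, hA]) (by rw [Matrix.transpose_submatrix, hB])
      (by rwa [Matrix.det_submatrix_equiv_self]) (by rwa [Matrix.det_submatrix_equiv_self])
      (by rwa [Matrix.det_submatrix_equiv_self, Matrix.det_submatrix_equiv_self])
    refine ⟨P.submatrix e e, ?_⟩
    have h1 := congrArg (fun M : Matrix _ _ F => M.submatrix e e) hP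
    simpa [← Matrix.submatrix_mul_equiv _ _ _ e, Matrix.transpose_submatrix,
      Matrix.submatrix_submatrix] using h1
  intro n A B hA hB hAu hBu hsq
  have hgram : ∀ {C : Matrix (Fin n) (Fin n) F}, Cᵀ = C →
      (Matrix.of fun i j : Fin n =>
        QuadraticMap.polar (Gram.toQ C) (Pi.single i 1) (Pi.single j 1)).det = (2 : F) ^ n * C.det := by
    intro C hC
    have : (Matrix.of fun i j : Fin n =>
        QuadraticMap.polar (Gram.toQ C) (Pi.single i 1) (Pi.single j 1)) = (2 : F) • C := by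
      ext i j
      rw [Matrix.of_apply, Gram.polar_toQ hC]
      simp
    rw [this, Matrix.det_smul, Fintype.card_fin]
  obtain ⟨g, hg⟩ := (QuadBasis.isometric_iff h2 (Gram.toQ B) (Gram.toQ A)
    (Gram.toQ_nondeg h2 hB hBu) (Gram.toQ_nondeg h2 hA hAu)).2 (by
      rw [hgram hA, hgram hB]
      obtain ⟨r, hr⟩ := hsq
      exact ⟨(2 : F) ^ n * r, by linear_combination ((2 : F) ^ n * (2 : F) ^ n) * hr⟩)
  refine ⟨LinearMap.toMatrix' (g : (Fin n → F) →ₗ[F] (Fin n → F)), Gram.mat_ext_dot fun u v => ?_⟩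
  refine mul_left_cancel₀ h2 ?_
  rw [← Gram.polar_toQ hB, show u ⬝ᵥ ((LinearMap.toMatrix' (g : (Fin n → F) →ₗ[F] (Fin n → F)))ᵀ * A *
      LinearMap.toMatrix' (g : (Fin n → F) →ₗ[F] (Fin n → F))) *ᵥ v = (g u) ⬝ᵥ A *ᵥ (g v) by
    rw [← Matrix.mulVec_mulVec, ← Matrix.mulVec_mulVec, Matrix.dotProduct_mulVec, Matrix.vecMul_transpose,
      LinearMap.toMatrix'_mulVec, LinearMap.toMatrix'_mulVec]
    rfl, ← Gram.polar_toQ hA]
  simp only [QuadraticMap.polar, ← map_add, hg]

theorem alt_of_skew (h2 : (2 : F) ≠ 0) {ι : Type*} [Fintype ι] {A : Matrix ι ι F} (hA : Aᵀ = -A)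
    (v : ι → F) : v ⬝ᵥ A *ᵥ v = 0 := by
  have h : v ⬝ᵥ A *ᵥ v = -(v ⬝ᵥ A *ᵥ v) := by
    conv_lhs => rw [Matrix.dotProduct_mulVec, ← Matrix.mulVec_transpose, dotProduct_comm, hA,
      Matrix.neg_mulVec, dotProduct_neg]
  exact (mul_eq_zero.1 (show (2 : F) * (v ⬝ᵥ A *ᵥ v) = 0 by linear_combination h)).resolve_left h2

variable {t : ℕ} (d : Fin t → ℕ)

local notation "I" => ((k : Fin t) × Fin (d k))
local notation "Mat" => Matrix I I F

theorem isForm_congr {W y : Mat} (hW : IsForm d W) (hy : Comm d y) (hu : IsUnit y.det) :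
    IsForm d (yᵀ * W * y) := by
  refine ⟨?_, ?_, ?_⟩
  · rw [Matrix.isUnit_iff_isUnit_det, Matrix.det_mul, Matrix.det_mul, Matrix.det_transpose]
    exact (hu.mul ((Matrix.isUnit_iff_isUnit_det _).1 hW.unit)).mul hu
  · rw [Matrix.transpose_mul, Matrix.transpose_mul, Matrix.transpose_transpose, hW.skew,
      Matrix.neg_mul, Matrix.mul_neg, ← Matrix.mul_assoc]
  · have hJ : y * Cfsg.jordanTypeMatrix d F = Cfsg.jordanTypeMatrix d F * y := by
      rw [JordanCent.jordan_eq, mul_add, add_mul, mul_one, one_mul, hy]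
    unfold IsInv
    calc (Cfsg.jordanTypeMatrix d F)ᵀ * (yᵀ * W * y) * Cfsg.jordanTypeMatrix d F
        = (y * Cfsg.jordanTypeMatrix d F)ᵀ * W * (y * Cfsg.jordanTypeMatrix d F) := by
          simp only [Matrix.transpose_mul, Matrix.mul_assoc]
      _ = yᵀ * ((Cfsg.jordanTypeMatrix d F)ᵀ * W * Cfsg.jordanTypeMatrix d F) * y := by
          rw [hJ]; simp only [Matrix.transpose_mul, Matrix.mul_assoc]
      _ = yᵀ * W * y := by rw [hW.inv]

variable {p : ℕ} [Fact p.Prime] [CharP F p]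

/-- classification up to congruence by the centraliser -/
theorem congr_iff (hd : ∀ k, 1 ≤ d k) (hp : p ≠ 2) (h2 : (2 : F) ≠ 0) {V W : Mat} (hV : IsForm d V)
    (hW : IsForm d W) :
    (∃ y : Mat, IsUnit y.det ∧ Comm d y ∧ yᵀ * V * y = W) ↔
      ∀ i, 1 ≤ i → Even i → IsSquare ((btop d V i).det * (btop d W i).det) := by
  have hVu : IsUnit V.det := (Matrix.isUnit_iff_isUnit_det _).1 hV.unit
  have hWu : IsUnit W.det := (Matrix.isUnit_iff_isUnit_det _).1 hW.unit
  constructor
  · rintro ⟨y, -, hyc, rfl⟩ i hi -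
    rw [btop_congr d hd hV.inv hyc hyc hi, Matrix.det_mul, Matrix.det_mul, Matrix.det_transpose]
    exact ⟨(btop d V i).det * (topC d hd y i).det, by ring⟩
  intro h
  have hex : ∀ i, ∃ P : Matrix {k // d k = i} {k // d k = i} F, IsUnit P.det ∧
      (1 ≤ i → Pᵀ * btop d V i * P = btop d W i) := by
    intro i
    rcases Nat.eq_zero_or_pos i with rfl | hi
    · exact ⟨1, by simp, fun h => by omega⟩
    have hunit : ∀ P : Matrix {k // d k = i} {k // d k = i} F,
        Pᵀ * btop d V i * P = btop d W i → IsUnit P.det := by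
      intro P hP
      have hu := isUnit_btop d hd hW.inv hWu (i := i) hi
      rw [← hP, Matrix.det_mul] at hu
      exact (IsUnit.mul_iff.1 hu).2
    have hVt := btop_transpose d hV.inv hV.skew hi
    have hWt := btop_transpose d hW.inv hW.skew hi
    rcases Nat.even_or_odd i with he | ho
    · rw [he.neg_one_pow, one_smul] at hVt hWt
      obtain ⟨P, hP⟩ := sym_congr h2 hVt hWt (isUnit_btop d hd hV.inv hVu hi)
        (isUnit_btop d hd hW.inv hWu hi) (h i hi he)
      exact ⟨P, hunit P hP, fun _ => hP⟩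
    · rw [ho.neg_one_pow, neg_one_smul] at hVt hWt
      obtain ⟨P, hP⟩ := SymplecticSemisimple.exists_congr (btop d V i) (btop d W i)
        (alt_of_skew h2 hVt) (isUnit_btop d hd hV.inv hVu hi) (alt_of_skew h2 hWt)
        (isUnit_btop d hd hW.inv hWu hi)
      exact ⟨P, hunit P hP, fun _ => hP⟩
  choose P hPu hP using hex
  set C := lift d P with hC
  have hCc : Comm d C := comm_lift d P
  have hCu : IsUnit C.det := isUnit_of_topC d hd hCc fun i => by rw [hC, topC_lift]; exact hPu i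
  obtain ⟨y, hyu, hyc, hy⟩ := congr_of_btop d hd hp (isForm_congr d hV hCc hCu) hW (fun i hi => by
    rw [btop_congr d hd hV.inv hCc hCc hi, hC, topC_lift, hP i hi])
  refine ⟨C * y, by rw [Matrix.det_mul]; exact hCu.mul hyu, comm_mul d hd hCc hyc, ?_⟩
  rw [← hy, Matrix.transpose_mul]
  simp only [Matrix.mul_assoc]

/-- the invariant form of one block, normalised -/
theorem exists_blockForm (h2 : (2 : F) ≠ 0) {i : ℕ} (hi : 1 ≤ i) :
    ∃ G : ℕ → ℕ → F, (∀ a b, G (a + 1) b + G a (b + 1) + G (a + 1) (b + 1) = 0) ∧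
      (∀ a b, ¬ (a < i ∧ b < i) → G a b = 0) ∧ (∀ a b, G b a = (-1) ^ (i + 1) * G a b) ∧
        G 0 (i - 1) = 1 := by
  let d1 : Fin 1 → ℕ := fun _ => i
  obtain ⟨R, hRu, hR, hRb⟩ := exists_ref (F := F) d1 (fun _ => hi)
  obtain ⟨s, hs, hb⟩ := hRb i
  set f : ℕ → ℕ → F := fun a b => phi d1 R 0 0 a b with hf
  have htop : f 0 (i - 1) = s := by
    have := congrFun (congrFun hb ⟨0, rfl⟩) ⟨0, rfl⟩
    rw [Matrix.smul_apply, Matrix.one_apply_eq, smul_eq_mul, mul_one] at this
    exact this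
  have hchain : ∀ a, a + 1 ≤ i → f a (i - 1 - a) = (-1 : F) ^ a * s := by
    intro a
    induction a with
    | zero => intro _; rw [Nat.sub_zero, htop, pow_zero, one_mul]
    | succ a ih =>
      intro ha
      have h := (isInv_iff d1 R).1 hR 0 0 a (i - 1 - (a + 1))
      rw [vanish_left d1 hR 0 0 (show d1 0 ≤ a + 1 + (i - 1 - (a + 1) + 1) by
          show i ≤ _; omega), add_zero, show i - 1 - (a + 1) + 1 = i - 1 - a by omega] at h
      show phi d1 R 0 0 (a + 1) _ = _
      rw [eq_neg_of_add_eq_zero_left h, show phi d1 R 0 0 a (i - 1 - a) = f a (i - 1 - a) from rfl,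
        ih (by omega), pow_succ]
      ring
  have hstep : ∀ a b, f (a + 1) b + f a (b + 1) + f (a + 1) (b + 1) = 0 := fun a b =>
    (isInv_iff d1 R).1 hR 0 0 a b
  have hout : ∀ a b, ¬ (a < i ∧ b < i) → f a b = 0 := fun a b h => phi_out d1 R h
  have hε : ((-1 : F) ^ (i + 1)) * (-1) ^ (i + 1) = 1 := by
    rw [← mul_pow, neg_one_mul, neg_neg, one_pow]
  refine ⟨fun a b => (f a b + (-1) ^ (i + 1) * f b a) / (2 * s), fun a b => ?_, fun a b h => ?_,
    fun a b => ?_, ?_⟩
  · rw [← add_div, ← add_div, div_eq_zero_iff]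
    left
    linear_combination hstep a b + ((-1 : F) ^ (i + 1)) * hstep b a
  · dsimp only
    rw [hout a b h, hout b a (fun h' => h ⟨h'.2, h'.1⟩), mul_zero, add_zero, zero_div]
  · dsimp only
    rw [← mul_div_assoc]
    congr 1
    linear_combination (-(f b a)) * hε
  · have h := hchain (i - 1) (by omega)
    rw [Nat.sub_self] at h
    show (f 0 (i - 1) + (-1) ^ (i + 1) * f (i - 1) 0) / (2 * s) = 1
    rw [htop, h, ← mul_assoc, ← pow_add, show i + 1 + (i - 1) = i + i by omega,
      (Even.neg_one_pow ⟨i, rfl⟩), one_mul, ← two_mul, div_self (mul_ne_zero h2 hs)]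

/-- every tuple of determinants on even block sizes occurs -/
theorem exists_form_det (hd : ∀ k, 1 ≤ d k) (h2 : (2 : F) ≠ 0)
    (hev : ∀ j : ℕ, Odd j → Even (Finset.univ.filter (fun k : Fin t => d k = j)).card)
    (ε : ℕ → F) (hε : ∀ i, ε i ≠ 0) :
    ∃ W : Mat, IsForm d W ∧
      ∀ i, Even i → (∃ k, d k = i) → (btop d W i).det = ε i := by
  have hB : ∀ i, ∃ B : Matrix {k // d k = i} {k // d k = i} F, IsUnit B.det ∧
      Bᵀ = (-1 : F) ^ i • B ∧ (Even i → (∃ k, d k = i) → B.det = ε i) := by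
    intro i
    rcases Nat.even_or_odd i with he | ho
    · by_cases hne : ∃ k, d k = i
      · obtain ⟨k, hk⟩ := hne
        set w : {k // d k = i} → F := fun j => if j = ⟨k, hk⟩ then ε i else 1
        have hdet : (Matrix.diagonal w).det = ε i := by
          rw [Matrix.det_diagonal]
          exact Fintype.prod_ite_eq' _ _
        exact ⟨Matrix.diagonal w, hdet ▸ (hε i).isUnit,
          by rw [Matrix.diagonal_transpose, he.neg_one_pow, one_smul], fun _ _ => hdet⟩
      · exact ⟨1, by simp, by rw [Matrix.transpose_one, he.neg_one_pow, one_smul],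
          fun _ h => absurd h hne⟩
    · obtain ⟨r, hr⟩ := hev i ho
      have e : {k // d k = i} ≃ Fin r ⊕ Fin r := Fintype.equivOfCardEq (by
        rw [Fintype.card_subtype, hr, Fintype.card_sum, Fintype.card_fin])
      refine ⟨(Matrix.J (Fin r) F).submatrix e e, ?_, ?_,
        fun h => absurd h (Nat.not_even_iff_odd.2 ho)⟩
      · rw [Matrix.det_submatrix_equiv_self]; exact Matrix.isUnit_det_J _ _
      · rw [Matrix.transpose_submatrix, Matrix.J_transpose, ho.neg_one_pow, neg_one_smul]; rfl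
  choose B hBu hBt hBd using hB
  have hG : ∀ i, ∃ G : ℕ → ℕ → F, 1 ≤ i →
      (∀ a b, G (a + 1) b + G a (b + 1) + G (a + 1) (b + 1) = 0) ∧
      (∀ a b, ¬ (a < i ∧ b < i) → G a b = 0) ∧ (∀ a b, G b a = (-1) ^ (i + 1) * G a b) ∧
        G 0 (i - 1) = 1 := by
    intro i
    rcases Nat.eq_zero_or_pos i with rfl | hi
    · exact ⟨0, fun h => by omega⟩
    · obtain ⟨G, hG⟩ := exists_blockForm (F := F) h2 hi
      exact ⟨G, fun _ => hG⟩
  choose G hG using hG
  set W : Mat := fun x y => if h : d x.1 = d y.1 then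
    B (d y.1) ⟨x.1, h⟩ ⟨y.1, rfl⟩ * G (d y.1) x.2 y.2 else 0 with hW
  have hval : ∀ (k l : Fin t) (i : ℕ) (hk : d k = i) (hl : d l = i) (a b : ℕ),
      phi d W k l a b = B i ⟨k, hk⟩ ⟨l, hl⟩ * G i a b := by
    intro k l i hk hl a b
    subst hl
    by_cases hab : a < d k ∧ b < d l
    · rw [phi, dif_pos hab, hW]
      simp only [dif_pos hk]
    · rw [phi_out d W hab, (hG _ (hd l)).2.1 a b (by omega), mul_zero]
  have hoff : ∀ (k l : Fin t) (a b : ℕ), d k ≠ d l → phi d W k l a b = 0 := by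
    intro k l a b h
    unfold phi
    split_ifs with hab
    · simp only [hW, dif_neg h]
    · rfl
  have hinv : IsInv d W := by
    rw [isInv_iff]
    intro k l a b
    by_cases h : d k = d l
    · rw [hval k l _ h rfl, hval k l _ h rfl, hval k l _ h rfl, ← mul_add, ← mul_add,
        (hG _ (hd l)).1, mul_zero]
    · simp only [hoff k l _ _ h, add_zero]
  have hskew : Wᵀ = -W := by
    ext x y
    rw [Matrix.transpose_apply, Matrix.neg_apply, ← phi_val d W y x, ← phi_val d W x y]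
    by_cases h : d x.1 = d y.1
    · rw [hval y.1 x.1 _ rfl h, hval x.1 y.1 _ h rfl, (hG _ (hd y.1)).2.2.1 x.2 y.2]
      have h1 := congrFun (congrFun (hBt (d y.1)) ⟨x.1, h⟩) ⟨y.1, rfl⟩
      rw [Matrix.transpose_apply, Matrix.smul_apply, smul_eq_mul] at h1
      have hsgn : ((-1 : F) ^ (d y.1)) * (-1) ^ (d y.1) = 1 := by
        rw [← mul_pow, neg_one_mul, neg_neg, one_pow]
      rw [h1, pow_succ]
      linear_combination (-(B (d y.1) ⟨x.1, h⟩ ⟨y.1, rfl⟩ * G (d y.1) x.2 y.2)) * hsgn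
    · rw [hoff _ _ _ _ h, hoff _ _ _ _ (Ne.symm h), neg_zero]
  have hbt : ∀ i, 1 ≤ i → btop d W i = B i := by
    intro i hi
    ext k l
    rw [btop, hval k.1 l.1 i k.2 l.2, (hG i hi).2.2.2, mul_one]
  refine ⟨W, ⟨(Matrix.isUnit_iff_isUnit_det _).2
    (isUnit_of_btop d hd hinv fun i hi => hbt i hi ▸ hBu i), hskew, hinv⟩, fun i he hk => ?_⟩
  obtain ⟨k, hk'⟩ := hk
  rw [hbt i (hk' ▸ hd k)]
  exact hBd i he ⟨k, hk'⟩

end Cfsg.Agent.Small.SpClassCount
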