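import Cfsg.Agent.Lib.Small.JordanCentralizer
import Cfsg.Agent.Lib.Small.SpJordan

/-!
# Top parts of invariant forms of a unipotent matrix

For the Jordan matrix `J` of type `d`, a commuting matrix `X` has a top part `topC X i` on the
blocks of size `i`, an invariant form `W` has a top form `btop W i`.  An invariant alternating
form is determined by its top forms up to congruence by the centraliser of `J` (odd
characteristic).
-/

set_option autoImplicit false
set_option linter.unusedSectionVars false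

namespace Cfsg.Agent.Small.SpClassCount

open Matrix
open scoped _root_.Classical

variable {F : Type*} [Field F] {t : ℕ} (d : Fin t → ℕ)

local notation "I" => ((k : Fin t) × Fin (d k))
local notation "Mat" => Matrix I I F

/-- matrix entries, zero out of range -/
noncomputable def phi (W : Mat) (k l : Fin t) (a b : ℕ) : F :=
  if h : a < d k ∧ b < d l then W ⟨k, a, h.1⟩ ⟨l, b, h.2⟩ else 0

theorem phi_out (W : Mat) {k l : Fin t} {a b : ℕ} (h : ¬ (a < d k ∧ b < d l)) :
    phi d W k l a b = 0 := dif_neg h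

theorem phi_val (W : Mat) (x y : I) : phi d W x.1 y.1 x.2 y.2 = W x y :=
  dif_pos ⟨x.2.isLt, y.2.isLt⟩

/-- invariance under `J` -/
def IsInv (W : Mat) : Prop :=
  (Cfsg.jordanTypeMatrix d F)ᵀ * W * Cfsg.jordanTypeMatrix d F = W

/-- invariant alternating forms, odd characteristic -/
structure IsForm (W : Mat) : Prop where
  unit : IsUnit W
  skew : Wᵀ = -W
  inv : IsInv d W

/-- commuting with `N` -/
def Comm (X : Mat) : Prop := X * JordanCent.nilM F d = JordanCent.nilM F d * X

theorem mul_nilM_phi (W : Mat) (x : I) (l : Fin t) (b : Fin (d l)) :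
    (W * JordanCent.nilM F d) x ⟨l, b⟩ = phi d W x.1 l x.2 (b.val + 1) := by
  rw [JordanCent.mul_nilM_apply]
  split_ifs with h
  · rw [← phi_val d W x ⟨l, ⟨b.val + 1, h⟩⟩]
  · rw [phi_out d W (fun h' => h h'.2)]

theorem nilT_mul_phi (W : Mat) (k : Fin t) (a : Fin (d k)) (y : I) :
    ((JordanCent.nilM F d)ᵀ * W) ⟨k, a⟩ y = phi d W k y.1 (a.val + 1) y.2 := by
  have h := mul_nilM_phi d Wᵀ y k a
  rw [show (JordanCent.nilM F d)ᵀ * W = (Wᵀ * JordanCent.nilM F d)ᵀ by
    rw [Matrix.transpose_mul, Matrix.transpose_transpose], Matrix.transpose_apply, h]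
  unfold phi
  by_cases h1 : a.val + 1 < d k
  · rw [dif_pos ⟨y.2.isLt, h1⟩, dif_pos ⟨h1, y.2.isLt⟩, Matrix.transpose_apply]
  · rw [dif_neg (fun h' => h1 h'.2), dif_neg (fun h' => h1 h'.1)]

theorem isInv_iff (W : Mat) : IsInv d W ↔ ∀ k l a b,
    phi d W k l (a + 1) b + phi d W k l a (b + 1) + phi d W k l (a + 1) (b + 1) = 0 := by
  have e : IsInv d W ↔ (JordanCent.nilM F d)ᵀ * W + W * JordanCent.nilM F d +
      (JordanCent.nilM F d)ᵀ * (W * JordanCent.nilM F d) = 0 := by
    rw [IsInv, JordanCent.jordan_eq, Matrix.transpose_add, Matrix.transpose_one]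
    constructor
    · intro h
      rw [add_mul, mul_add, mul_one, one_mul, add_mul] at h
      linear_combination (norm := noncomm_ring) h
    · intro h
      rw [add_mul, mul_add, mul_one, one_mul, add_mul]
      linear_combination (norm := noncomm_ring) h
  rw [e]
  have hent : ∀ (k l : Fin t) (a : Fin (d k)) (b : Fin (d l)),
      ((JordanCent.nilM F d)ᵀ * W + W * JordanCent.nilM F d +
        (JordanCent.nilM F d)ᵀ * (W * JordanCent.nilM F d)) ⟨k, a⟩ ⟨l, b⟩ =
      phi d W k l (a + 1) b + phi d W k l a (b + 1) + phi d W k l (a + 1) (b + 1) := by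
    intro k l a b
    rw [Matrix.add_apply, Matrix.add_apply, nilT_mul_phi, mul_nilM_phi, nilT_mul_phi]
    congr 1
    unfold phi
    by_cases h1 : a.val + 1 < d k
    · rw [dif_pos ⟨h1, b.isLt⟩, mul_nilM_phi, phi]
    · rw [dif_neg (fun h' => h1 h'.1), dif_neg (fun h' => h1 h'.1)]
  constructor
  · intro h k l a b
    by_cases hab : a < d k ∧ b < d l
    · rw [← hent k l ⟨a, hab.1⟩ ⟨b, hab.2⟩, h, Matrix.zero_apply]
    · rw [phi_out, phi_out, phi_out, add_zero, add_zero] <;> omega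
  · intro h
    ext ⟨k, a⟩ ⟨l, b⟩
    rw [hent, h, Matrix.zero_apply]

theorem vanish_right {W : Mat} (hW : IsInv d W) (k l : Fin t) :
    ∀ {a b : ℕ}, d l ≤ a + b → phi d W k l a b = 0 := by
  suffices h : ∀ j a b, d l - b ≤ j → d l ≤ a + b → phi d W k l a b = 0 from
    fun {a b} hab => h (d l) a b (Nat.sub_le _ _) hab
  intro j
  induction j with
  | zero => intro a b hb _; exact phi_out d W (fun h => by omega)
  | succ j ih =>
    intro a b hb hab
    rcases Nat.eq_zero_or_pos a with rfl | ha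
    · exact phi_out d W (fun h => by omega)
    obtain ⟨a', rfl⟩ : ∃ a', a = a' + 1 := ⟨a - 1, by omega⟩
    have h := (isInv_iff d W).1 hW k l a' b
    rw [ih a' (b + 1) (by omega) (by omega), ih (a' + 1) (b + 1) (by omega) (by omega), add_zero,
      add_zero] at h
    exact h

theorem vanish_left {W : Mat} (hW : IsInv d W) (k l : Fin t) :
    ∀ {a b : ℕ}, d k ≤ a + b → phi d W k l a b = 0 := by
  suffices h : ∀ j a b, d k - a ≤ j → d k ≤ a + b → phi d W k l a b = 0 from
    fun {a b} hab => h (d k) a b (Nat.sub_le _ _) hab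
  intro j
  induction j with
  | zero => intro a b ha _; exact phi_out d W (fun h => by omega)
  | succ j ih =>
    intro a b ha hab
    rcases Nat.eq_zero_or_pos b with rfl | hb
    · exact phi_out d W (fun h => by omega)
    obtain ⟨b', rfl⟩ : ∃ b', b = b' + 1 := ⟨b - 1, by omega⟩
    have h := (isInv_iff d W).1 hW k l a b'
    rw [ih (a + 1) b' (by omega) (by omega), ih (a + 1) (b' + 1) (by omega) (by omega), add_zero,
      zero_add] at h
    exact h

/-- the top form on the blocks of size `i` -/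
noncomputable def btop (W : Mat) (i : ℕ) : Matrix {k // d k = i} {k // d k = i} F :=
  fun k l => phi d W k.1 l.1 0 (i - 1)

theorem btop_transpose {W : Mat} (hW : IsInv d W) (hs : Wᵀ = -W) {i : ℕ} (hi : 1 ≤ i) :
    (btop d W i)ᵀ = (-1 : F) ^ i • btop d W i := by
  ext k l
  have hchain : ∀ a, a + 1 ≤ i →
      phi d W k.1 l.1 a (i - 1 - a) = (-1 : F) ^ a * phi d W k.1 l.1 0 (i - 1) := by
    intro a
    induction a with
    | zero => intro _; simp
    | succ a ih =>
      intro ha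
      have h := (isInv_iff d W).1 hW k.1 l.1 a (i - 1 - (a + 1))
      rw [vanish_left d hW k.1 l.1 (show d k.1 ≤ a + 1 + (i - 1 - (a + 1) + 1) by
          have := k.2; omega), add_zero, show i - 1 - (a + 1) + 1 = i - 1 - a by omega,
        ih (by omega)] at h
      rw [eq_neg_of_add_eq_zero_left h, pow_succ]; ring
  have h := hchain (i - 1) (by omega)
  rw [Nat.sub_self] at h
  have hsw : phi d W l.1 k.1 0 (i - 1) = - phi d W k.1 l.1 (i - 1) 0 := by
    have hk : i - 1 < d k.1 := by rw [k.2]; omega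
    have hl : 0 < d l.1 := by rw [l.2]; omega
    rw [phi, dif_pos ⟨hl, hk⟩, phi, dif_pos ⟨hk, hl⟩]
    exact congrFun (congrFun hs ⟨k.1, i - 1, hk⟩) ⟨l.1, 0, hl⟩
  simp only [Matrix.transpose_apply, Matrix.smul_apply, smul_eq_mul, btop]
  rw [hsw, h]
  obtain ⟨j, rfl⟩ : ∃ j, i = j + 1 := ⟨i - 1, by omega⟩
  rw [Nat.add_sub_cancel, pow_succ]
  ring

variable (hd : ∀ k, 1 ≤ d k)

/-- the top part on the blocks of size `i` -/
def topC (X : Mat) (i : ℕ) : Matrix {k // d k = i} {k // d k = i} F :=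
  fun k l => X ⟨k.1, ⟨0, hd k.1⟩⟩ ⟨l.1, ⟨0, hd l.1⟩⟩

theorem topC_one (i : ℕ) : topC d hd (1 : Mat) i = 1 := by
  ext k l
  rw [topC]
  by_cases h : k = l
  · subst h; simp
  · rw [Matrix.one_apply_ne h, Matrix.one_apply_ne fun e => h (Subtype.ext (congrArg Sigma.fst e))]

include hd

theorem entry_zero {X : Mat} (hX : Comm d X) (a b : I)
    (h : ¬ (b.2.val ≤ a.2.val ∧ d a.1 ≤ a.2.val - b.2.val + d b.1)) : X a b = 0 := by
  rw [← JordanCent.build_entries d hd X hX, JordanCent.build, dif_neg h]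

theorem entry_shift {X : Mat} (hX : Comm d X) (k l : Fin t) {a : ℕ} (hk : a < d k) (hl : a < d l)
    (hkl : d k ≤ d l) : X ⟨k, a, hk⟩ ⟨l, a, hl⟩ = X ⟨k, ⟨0, hd k⟩⟩ ⟨l, ⟨0, hd l⟩⟩ := by
  conv_lhs => rw [← JordanCent.build_entries d hd X hX]
  rw [JordanCent.build, dif_pos ⟨le_refl _, by
    show d k ≤ a - a + d l
    omega⟩]
  simp [JordanCent.entries]

theorem topC_mul {X Y : Mat} (hX : Comm d X) (hY : Comm d Y) (i : ℕ) :
    topC d hd (X * Y) i = topC d hd X i * topC d hd Y i := by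
  ext k l
  rw [topC, Matrix.mul_apply, Matrix.mul_apply]
  refine (Finset.sum_of_injOn (fun j : {k // d k = i} => (⟨j.1, ⟨0, hd j.1⟩⟩ : I))
    (fun a _ b _ h => Subtype.ext (congrArg Sigma.fst h)) (fun _ _ => Finset.mem_univ _) ?_
    fun _ _ => rfl).symm
  rintro ⟨j, c, hc⟩ - hj
  by_contra hne
  have h1 : c ≤ 0 ∧ d k.1 ≤ 0 - c + d j := by
    by_contra h
    exact hne (by rw [entry_zero d hd hX ⟨k.1, ⟨0, hd k.1⟩⟩ ⟨j, c, hc⟩ h, zero_mul])
  have h2 : 0 ≤ c ∧ d j ≤ c - 0 + d l.1 := by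
    by_contra h
    exact hne (by rw [entry_zero d hd hY ⟨j, c, hc⟩ ⟨l.1, ⟨0, hd l.1⟩⟩ h, mul_zero])
  obtain rfl : c = 0 := by omega
  have := k.2
  have := l.2
  exact hj ⟨⟨j, by omega⟩, Finset.mem_coe.2 (Finset.mem_univ _), rfl⟩

theorem comm_mul {X Y : Mat} (hX : Comm d X) (hY : Comm d Y) : Comm d (X * Y) := by
  unfold Comm at *
  rw [mul_assoc, hY, ← mul_assoc, hX, mul_assoc]

theorem comm_one : Comm d (1 : Mat) := by rw [Comm, one_mul, mul_one]

theorem btop_congr {W C C' : Mat} (hW : IsInv d W) (hC : Comm d C) (hC' : Comm d C') {i : ℕ}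
    (hi : 1 ≤ i) :
    btop d (C'ᵀ * W * C) i = (topC d hd C' i)ᵀ * btop d W i * topC d hd C i := by
  ext k l
  have hk : 0 < d k.1 := hd k.1
  have hl : i - 1 < d l.1 := by rw [l.2]; omega
  rw [btop, phi, dif_pos ⟨hk, hl⟩, Matrix.mul_apply, Matrix.mul_apply]
  simp only [Matrix.mul_apply, Matrix.transpose_apply, topC, btop]
  let g : {k // d k = i} → I := fun j => ⟨j.1, i - 1, by rw [j.2]; omega⟩
  refine (Finset.sum_of_injOn g (fun a _ b _ h => Subtype.ext (congrArg Sigma.fst h))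
    (fun _ _ => Finset.mem_univ _) ?_ ?_).symm
  · rintro ⟨r, b, hb⟩ - hr
    by_contra hne
    have h2 : i - 1 ≤ b ∧ d r ≤ b - (i - 1) + d l.1 := by
      by_contra h
      exact hne (by rw [entry_zero d hd hC ⟨r, b, hb⟩ ⟨l.1, i - 1, hl⟩ h, mul_zero])
    obtain ⟨⟨p, a, ha⟩, -, hp⟩ := Finset.exists_ne_zero_of_sum_ne_zero (left_ne_zero_of_mul hne)
    have h1 : 0 ≤ a ∧ d p ≤ a - 0 + d k.1 := by
      by_contra h
      exact hp (by rw [entry_zero d hd hC' ⟨p, a, ha⟩ ⟨k.1, ⟨0, hk⟩⟩ h, zero_mul])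
    have h3 : a + b < d r ∧ a + b < d p := by
      by_contra h
      refine hp ?_
      have : W ⟨p, a, ha⟩ ⟨r, b, hb⟩ = 0 := by
        rw [← phi_val d W ⟨p, a, ha⟩ ⟨r, b, hb⟩]
        rcases not_and_or.1 h with h' | h'
        · exact vanish_right d hW p r (a := a) (b := b) (by omega)
        · exact vanish_left d hW p r (a := a) (b := b) (by omega)
      rw [this, mul_zero]
    have := k.2
    have := l.2
    refine hr ⟨⟨r, by omega⟩, Finset.mem_coe.2 (Finset.mem_univ _), ?_⟩
    have hb' : b = i - 1 := by omega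
    subst hb'
    rfl
  · intro j _
    rw [show C ⟨j.1, i - 1, _⟩ ⟨l.1, i - 1, hl⟩ = C ⟨j.1, ⟨0, hd j.1⟩⟩ ⟨l.1, ⟨0, hd l.1⟩⟩ from
      entry_shift d hd hC j.1 l.1 _ hl (by rw [j.2, l.2])]
    congr 1
    refine Finset.sum_of_injOn (fun j : {k // d k = i} => (⟨j.1, ⟨0, hd j.1⟩⟩ : I))
      (fun a _ b _ h => Subtype.ext (congrArg Sigma.fst h)) (fun _ _ => Finset.mem_univ _) ?_ ?_
    · rintro ⟨p, a, ha⟩ - hp
      by_contra hne
      have h1 : 0 ≤ a ∧ d p ≤ a - 0 + d k.1 := by
        by_contra h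
        exact hne (by rw [entry_zero d hd hC' ⟨p, a, ha⟩ ⟨k.1, ⟨0, hk⟩⟩ h, zero_mul])
      have h3 : a + (i - 1) < d j.1 ∧ a + (i - 1) < d p := by
        by_contra h
        refine hne ?_
        have : W ⟨p, a, ha⟩ (g j) = 0 := by
          rw [← phi_val d W ⟨p, a, ha⟩ (g j)]
          rcases not_and_or.1 h with h' | h'
          · exact vanish_right d hW p j.1 (a := a) (b := i - 1) (by omega)
          · exact vanish_left d hW p j.1 (a := a) (b := i - 1) (by omega)
        rw [this, mul_zero]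
      have := k.2
      have := j.2
      obtain rfl : a = 0 := by omega
      exact hp ⟨⟨p, by omega⟩, Finset.mem_coe.2 (Finset.mem_univ _), rfl⟩
    · intro r _
      rw [phi, dif_pos ⟨hd r.1, by rw [j.2]; omega⟩]

theorem btop_mul {W X : Mat} (hW : IsInv d W) (hX : Comm d X) {i : ℕ} (hi : 1 ≤ i) :
    btop d (W * X) i = btop d W i * topC d hd X i := by
  have h := btop_congr d hd hW hX (comm_one d hd) hi
  rwa [Matrix.transpose_one, one_mul, topC_one, Matrix.transpose_one, one_mul] at h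

theorem isNilpotent_of_topC_zero {X : Mat} (hX : Comm d X) (h : ∀ i, topC d hd X i = 0) :
    IsNilpotent X := by
  obtain ⟨M, hM⟩ : ∃ M, ∀ k, d k < M :=
    ⟨Finset.univ.sup d + 1, fun k => Nat.lt_succ_of_le (Finset.le_sup (Finset.mem_univ k))⟩
  let w : I → ℕ := fun x => x.2.val * M + (M - 1 - d x.1)
  have hstep : ∀ x y, X x y ≠ 0 → w y < w x := by
    rintro ⟨k, a, ha⟩ ⟨l, b, hb⟩ hne
    have hnz : b ≤ a ∧ d k ≤ a - b + d l := by
      by_contra h'
      exact hne (entry_zero d hd hX _ _ h')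
    show b * M + (M - 1 - d l) < a * M + (M - 1 - d k)
    rcases Nat.lt_or_ge b a with hlt | hge
    · have h1 : (b + 1) * M ≤ a * M := Nat.mul_le_mul_right M hlt
      have := hM l
      rw [add_mul, one_mul] at h1
      omega
    · obtain rfl : b = a := by omega
      have hkl : d k ≠ d l := by
        intro e
        refine hne ?_
        rw [entry_shift d hd hX k l ha hb (by omega)]
        exact congrFun (congrFun (h (d l)) ⟨k, e⟩) ⟨l, rfl⟩
      have := hM l
      omega
  have hpow : ∀ n, ∀ x y, (X ^ n) x y ≠ 0 → w y + n ≤ w x := by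
    intro n
    induction n with
    | zero =>
      intro x y hne
      rw [pow_zero] at hne
      have : x = y := by
        by_contra hxy
        exact hne (Matrix.one_apply_ne hxy)
      rw [this]; rfl
    | succ n ih =>
      intro x y hne
      rw [pow_succ, Matrix.mul_apply] at hne
      obtain ⟨z, -, hz⟩ := Finset.exists_ne_zero_of_sum_ne_zero hne
      have h1 := ih x z (left_ne_zero_of_mul hz)
      have h2 := hstep z y (right_ne_zero_of_mul hz)
      omega
  refine ⟨Finset.univ.sup w + 1, ?_⟩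
  ext x y
  by_contra hne
  have h1 := hpow _ x y hne
  have h2 : w x ≤ Finset.univ.sup w := Finset.le_sup (Finset.mem_univ x)
  omega

omit hd in
/-- a commuting matrix with prescribed top parts -/
noncomputable def lift (D : ∀ i, Matrix {k // d k = i} {k // d k = i} F) : Mat :=
  fun x y => if h : d x.1 = d y.1 ∧ x.2.val = y.2.val then D (d y.1) ⟨x.1, h.1⟩ ⟨y.1, rfl⟩ else 0

theorem topC_lift (D : ∀ i, Matrix {k // d k = i} {k // d k = i} F) (i : ℕ) :
    topC d hd (lift d D) i = D i := by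
  ext ⟨k, hk⟩ ⟨l, hl⟩
  subst hl
  rw [topC, lift, dif_pos ⟨hk, rfl⟩]

omit hd in
theorem comm_lift (D : ∀ i, Matrix {k // d k = i} {k // d k = i} F) : Comm d (lift d D) := by
  ext ⟨k, a⟩ ⟨l, b⟩
  rw [JordanCent.mul_nilM_apply, JordanCent.nilM_mul_apply]
  have ha := a.isLt
  have hb := b.isLt
  by_cases hkl : d k = d l ∧ a.val = b.val + 1
  · rw [dif_pos (show b.val + 1 < d l by omega), dif_pos (show 0 < a.val by omega)]
    simp only [lift]
    rw [dif_pos hkl, dif_pos ⟨hkl.1, show a.val - 1 = b.val by omega⟩]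
  · have e1 : (if h : b.val + 1 < d l then lift d D ⟨k, a⟩ ⟨l, ⟨b.val + 1, h⟩⟩ else 0) = 0 := by
      split_ifs with h
      · exact dif_neg (fun h' => hkl ⟨h'.1, h'.2⟩)
      · rfl
    have e2 : (if h : 0 < a.val then lift d D ⟨k, ⟨a.val - 1, by omega⟩⟩ ⟨l, b⟩ else 0) = 0 := by
      split_ifs with h
      · exact dif_neg (fun h' => hkl ⟨h'.1, by have := h'.2; simp only at this; omega⟩)
      · rfl
    rw [e1, e2]

theorem comm_inv {X : Mat} (hX : Comm d X) (hu : IsUnit X.det) : Comm d X⁻¹ := by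
  unfold Comm at *
  calc X⁻¹ * JordanCent.nilM F d = X⁻¹ * (JordanCent.nilM F d * X) * X⁻¹ := by
        rw [Matrix.mul_assoc X⁻¹, Matrix.mul_assoc (JordanCent.nilM F d), Matrix.mul_nonsing_inv _ hu, mul_one]
    _ = X⁻¹ * (X * JordanCent.nilM F d) * X⁻¹ := by rw [hX]
    _ = JordanCent.nilM F d * X⁻¹ := by
        rw [← Matrix.mul_assoc X⁻¹, Matrix.nonsing_inv_mul _ hu, one_mul]

theorem isUnit_topC {X : Mat} (hX : Comm d X) (hu : IsUnit X.det) (i : ℕ) :
    IsUnit (topC d hd X i).det := by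
  have h := topC_mul d hd hX (comm_inv d hd hX hu) i
  rw [Matrix.mul_nonsing_inv _ hu, topC_one] at h
  refine IsUnit.of_mul_eq_one (b := (topC d hd X⁻¹ i).det) ?_
  rw [← Matrix.det_mul, ← h, Matrix.det_one]

theorem comm_sub {X Y : Mat} (hX : Comm d X) (hY : Comm d Y) : Comm d (X - Y) := by
  unfold Comm at *
  rw [sub_mul, mul_sub, hX, hY]

theorem isNilpotent_sub_one {X : Mat} (hX : Comm d X) (h : ∀ i, topC d hd X i = 1) :
    IsNilpotent (X - 1) := by
  refine isNilpotent_of_topC_zero d hd (comm_sub d hd hX (comm_one d hd)) fun i => ?_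
  have : topC d hd (X - 1) i = topC d hd X i - topC d hd 1 i := rfl
  rw [this, h, topC_one, sub_self]

theorem isUnit_of_topC {X : Mat} (hX : Comm d X) (h : ∀ i, IsUnit (topC d hd X i).det) :
    IsUnit X.det := by
  set L := lift d (fun i => (topC d hd X i)⁻¹) with hL
  have h1 : IsNilpotent (L * X - 1) := by
    refine isNilpotent_sub_one d hd (comm_mul d hd (comm_lift d _) hX) fun i => ?_
    rw [topC_mul d hd (comm_lift d _) hX, topC_lift, Matrix.nonsing_inv_mul _ (h i)]
  have h2 : IsUnit (L * X) := by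
    have := h1.isUnit_one_add
    rwa [add_sub_cancel] at this
  rw [Matrix.isUnit_iff_isUnit_det, Matrix.det_mul] at h2
  exact (IsUnit.mul_iff.1 h2).2

/-- an invertible invariant block diagonal form -/
theorem exists_ref : ∃ R : Mat, IsUnit R.det ∧ IsInv d R ∧
    ∀ i, ∃ s : F, s ≠ 0 ∧ btop d R i = s • (1 : Matrix {k // d k = i} {k // d k = i} F) := by
  have hS : ∀ n, ∃ S : Matrix (Fin n) (Fin n) F, 1 ≤ n →
      IsUnit S ∧ (Cfsg.jordanBlock n F)ᵀ * S * Cfsg.jordanBlock n F = S := fun n => by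
    rcases Nat.eq_zero_or_pos n with h | h
    · exact ⟨0, fun h1 => by omega⟩
    · obtain ⟨S, hS⟩ := SpJordan.exists_inv (F := F) h
      exact ⟨S, fun _ => hS⟩
  choose S hS using hS
  set R : Mat := Matrix.blockDiagonal' (fun k => S (d k)) with hR
  have hinv : IsInv d R := by
    rw [IsInv, hR, Cfsg.jordanTypeMatrix, Matrix.blockDiagonal'_transpose,
      ← Matrix.blockDiagonal'_mul, ← Matrix.blockDiagonal'_mul]
    exact congrArg Matrix.blockDiagonal' (funext fun k => (hS _ (hd k)).2)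
  have hu : IsUnit R.det := by
    refine IsUnit.of_mul_eq_one (b := (Matrix.blockDiagonal' (fun k => (S (d k))⁻¹)).det) ?_
    rw [← Matrix.det_mul, hR, ← Matrix.blockDiagonal'_mul,
      show (fun k => S (d k) * (S (d k))⁻¹) = fun k => (1 : Matrix (Fin (d k)) (Fin (d k)) F) from
        funext fun k => Matrix.mul_nonsing_inv _ ((Matrix.isUnit_iff_isUnit_det _).1 (hS _ (hd k)).1)]
    exact (congrArg Matrix.det Matrix.blockDiagonal'_one).trans Matrix.det_one
  refine ⟨R, hu, hinv, fun i => ?_⟩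
  by_cases hne : Nonempty {k // d k = i}
  · obtain ⟨k₀, hk₀⟩ := hne
    subst hk₀
    set i := d k₀ with hi
    have hi1 : 1 ≤ i := hd k₀
    refine ⟨phi d R k₀ k₀ 0 (i - 1), ?_, ?_⟩
    · intro h0
      refine hu.ne_zero (Matrix.det_eq_zero_of_column_eq_zero ⟨k₀, ⟨i - 1, by omega⟩⟩ ?_)
      rintro ⟨k, a, ha⟩
      by_cases hk : k = k₀
      · subst hk
        rw [← phi_val d R]
        rcases Nat.eq_zero_or_pos a with rfl | hapos
        · exact h0
        · exact vanish_right d hinv k k (a := a) (b := i - 1) (by omega)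
      · exact Matrix.blockDiagonal'_apply_ne _ _ _ hk
    · ext ⟨k, hk⟩ ⟨l, hl⟩
      rw [btop, Matrix.smul_apply, smul_eq_mul]
      by_cases hkl : k = l
      · subst hkl
        rw [Matrix.one_apply_eq, mul_one]
        have h1 : ∀ (k : Fin t) (hk : d k = i), phi d R k k 0 (i - 1) =
            (fun n => if h : 0 < n ∧ i - 1 < n then S n ⟨0, h.1⟩ ⟨i - 1, h.2⟩ else 0) (d k) := by
          intro k hk
          by_cases hc : 0 < d k ∧ i - 1 < d k
          · simp only [phi, dif_pos hc, hR]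
            exact Matrix.blockDiagonal'_apply_eq _ _ _ _
          · simp only [phi, dif_neg hc]
        rw [h1 k hk, h1 k₀ rfl, hk]
      · rw [Matrix.one_apply_ne (fun e => hkl (congrArg Subtype.val e)), mul_zero, phi]
        split_ifs with h
        · exact Matrix.blockDiagonal'_apply_ne _ _ _ hkl
        · rfl
  · exact ⟨1, one_ne_zero, Matrix.ext fun k => absurd ⟨k⟩ hne⟩

theorem comm_of_inv {V W : Mat} (hV : IsInv d V) (hVu : IsUnit V.det) (hW : IsInv d W) :
    Comm d (V⁻¹ * W) := by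
  set J := Cfsg.jordanTypeMatrix d F with hJ
  have hJT : IsUnit (Jᵀ) := by
    rw [Matrix.isUnit_iff_isUnit_det]
    have h := congrArg Matrix.det hV
    rw [Matrix.det_mul, Matrix.det_mul] at h
    exact (IsUnit.mul_iff.1 (IsUnit.mul_iff.1 (h.symm ▸ hVu :
      IsUnit (Jᵀ.det * V.det * J.det))).1).1
  have h1 : Jᵀ * (V * J * (V⁻¹ * W)) = Jᵀ * (W * J) := by
    rw [show Jᵀ * (V * J * (V⁻¹ * W)) = (Jᵀ * V * J) * (V⁻¹ * W) by noncomm_ring, hV,
      Matrix.mul_nonsing_inv_cancel_left _ _ hVu, ← Matrix.mul_assoc, hW]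
  have h2 := hJT.mul_left_cancel h1
  have h3 : J * (V⁻¹ * W) = V⁻¹ * W * J := by
    calc J * (V⁻¹ * W) = V⁻¹ * (V * J * (V⁻¹ * W)) := by
          rw [Matrix.mul_assoc V J, Matrix.nonsing_inv_mul_cancel_left _ _ hVu]
      _ = _ := by rw [h2, Matrix.mul_assoc]
  rw [hJ, JordanCent.jordan_eq, add_mul, mul_add, one_mul, mul_one, add_right_inj] at h3
  exact h3.symm

theorem isUnit_btop {W : Mat} (hW : IsInv d W) (hu : IsUnit W.det) {i : ℕ} (hi : 1 ≤ i) :
    IsUnit (btop d W i).det := by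
  obtain ⟨R, hRu, hR, hRb⟩ := exists_ref (F := F) d hd
  obtain ⟨s, hs, hb⟩ := hRb i
  have hX := comm_of_inv d hd hR hRu hW
  have hXu : IsUnit (R⁻¹ * W).det := by
    rw [Matrix.det_mul]; exact (Matrix.isUnit_nonsing_inv_det _ hRu).mul hu
  rw [← Matrix.mul_nonsing_inv_cancel_left R W hRu, btop_mul d hd hR hX hi, hb, smul_mul_assoc,
    one_mul, Matrix.det_smul]
  exact ((IsUnit.mk0 s hs).pow _).mul (isUnit_topC d hd hX hXu i)

theorem isUnit_of_btop {W : Mat} (hW : IsInv d W)
    (h : ∀ i, 1 ≤ i → IsUnit (btop d W i).det) : IsUnit W.det := by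
  obtain ⟨R, hRu, hR, hRb⟩ := exists_ref (F := F) d hd
  have hX := comm_of_inv d hd hR hRu hW
  have hXu : IsUnit (R⁻¹ * W).det := by
    refine isUnit_of_topC d hd hX fun i => ?_
    rcases Nat.eq_zero_or_pos i with rfl | hi
    · haveI : IsEmpty {k // d k = 0} := ⟨fun k => absurd k.2 (by have := hd k.1; omega)⟩
      rw [Matrix.det_isEmpty]; exact isUnit_one
    obtain ⟨s, hs, hb⟩ := hRb i
    have h1 := h i hi
    rw [← Matrix.mul_nonsing_inv_cancel_left R W hRu, btop_mul d hd hR hX hi, hb, smul_mul_assoc,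
      one_mul, Matrix.det_smul] at h1
    exact (IsUnit.mul_iff.1 h1).2
  rw [Matrix.det_mul] at hXu
  exact (IsUnit.mul_iff.1 hXu).2

/-- congruence of forms with equal top forms -/
theorem congr_of_btop {p : ℕ} [Fact p.Prime] [CharP F p] (hp : p ≠ 2) {V W : Mat} (hV : IsForm d V)
    (hW : IsForm d W) (h : ∀ i, 1 ≤ i → btop d W i = btop d V i) :
    ∃ y : Mat, IsUnit y.det ∧ Comm d y ∧ yᵀ * V * y = W := by
  have hVu : IsUnit V.det := (Matrix.isUnit_iff_isUnit_det _).1 hV.unit
  set S := V⁻¹ * W with hS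
  have hSc : Comm d S := comm_of_inv d hd hV.inv hVu hW.inv
  have hVS : V * S = W := Matrix.mul_nonsing_inv_cancel_left _ _ hVu
  have htop : ∀ i, topC d hd S i = 1 := by
    intro i
    rcases Nat.eq_zero_or_pos i with rfl | hi
    · exact Matrix.ext fun k => absurd k.2 (by have := hd k.1; omega)
    have h1 := btop_mul d hd hV.inv hSc hi
    rw [hVS, h i hi] at h1
    have hu := isUnit_btop d hd hV.inv hVu hi
    calc topC d hd S i = (btop d V i)⁻¹ * (btop d V i * topC d hd S i) :=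
          (Matrix.nonsing_inv_mul_cancel_left _ _ hu).symm
      _ = 1 := by rw [← h1, Matrix.nonsing_inv_mul _ hu]
  obtain ⟨c, hc⟩ := isNilpotent_sub_one d hd hSc htop
  have hSp : S ^ p ^ c = 1 := by
    have h2 : (S - 1) ^ p ^ c = 0 :=
      pow_eq_zero_of_le (Nat.lt_pow_self (Fact.out : p.Prime).one_lt).le hc
    by_cases hne : Nonempty I
    · haveI := hne
      haveI : CharP (Matrix I I F) p := inferInstance
      haveI : ExpChar (Matrix I I F) p := ExpChar.prime Fact.out
      rw [sub_pow_expChar_pow_of_commute p c (Commute.one_right S), one_pow, sub_eq_zero] at h2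
      exact h2
    · haveI : IsEmpty I := not_nonempty_iff.1 hne
      exact Subsingleton.elim _ _
  have hodd : Odd (p ^ c) := ((Fact.out : p.Prime).odd_of_ne_two hp).pow
  obtain ⟨e, he⟩ := hodd
  have hadj : ∀ n : ℕ, (S ^ n)ᵀ * V = V * S ^ n := by
    have h1 : Sᵀ * V = V * S := by
      have h2 := congrArg Matrix.transpose hVS
      rw [Matrix.transpose_mul, hV.skew, hW.skew, mul_neg, neg_inj] at h2
      rw [h2, hVS]
    intro n
    induction n with
    | zero => simp
    | succ n ih =>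
      rw [pow_succ, Matrix.transpose_mul, Matrix.mul_assoc, ih, ← Matrix.mul_assoc, h1,
        Matrix.mul_assoc, ← pow_succ', ← pow_succ]
  refine ⟨S ^ (e + 1), ?_, ?_, ?_⟩
  · rw [Matrix.det_pow]
    refine IsUnit.pow _ ?_
    rw [hS, Matrix.det_mul]
    exact (Matrix.isUnit_nonsing_inv_det _ hVu).mul ((Matrix.isUnit_iff_isUnit_det _).1 hW.unit)
  · exact (Commute.pow_left hSc (e + 1) :)
  · rw [hadj, Matrix.mul_assoc, ← pow_add, show e + 1 + (e + 1) = p ^ c + 1 by omega, pow_succ, hSp,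
      one_mul, hVS]

end Cfsg.Agent.Small.SpClassCount
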